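import Groth.Agent.AbRR7.Poly
import Groth.Agent.EulerIsog7.Main
import Groth.Agent.AbDeg57.RankPow
import Groth.Agent.FGA29.DescRel
import Groth.Agent.FGA29.IntNumBC
import Groth.Agent.LC16.ExtCodim

/-!
The Euler characteristic of powers of an invertible module on an abelian variety.
-/

set_option autoImplicit false
set_option backward.isDefEq.respectTransparency.types false
set_option linter.style.haveILetI false
set_option maxSynthPendingDepth 6

noncomputable section

universe u

open CategoryTheory CategoryTheory.Limits MonoidalCategory CartesianMonoidalCategory MonObj GrpObj AlgebraicGeometry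
open scoped Polynomial Groth.Agent.FGA29

namespace Groth.Agent.AbRR7

variable {K : Type u} [Field K] {A : Over (Spec (CommRingCat.of K))} [GrpObj A] [IsProper A.hom]
  [GeometricallyIntegral A.hom]

/-- The action of the inverse on classes. -/
abbrev invCl : PicF.Cl A.left →* PicF.Cl A.left := FGA29.pullClHom ((𝟙 A)⁻¹ : A ⟶ A).left

omit [IsProper A.hom] [GeometricallyIntegral A.hom] in
theorem invCl_invCl (c : PicF.Cl A.left) : invCl (invCl c) = c := by
  show PicF.pullCl _ (PicF.pullCl _ c) = c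
  rw [FGA29.pullCl_comp, ← Over.comp_left, AbDeg57.inv_comp_inv, Over.id_left, FGA29.pullCl_id]

theorem pull_two {L : A.left.Modules} (hL : PicF.IsInvertible L) :
    FGA29.pullClHom (𝟙 A ^ 2).left (PicF.cl L) = PicF.cl L ^ 3 * invCl (PicF.cl L) := by
  obtain ⟨e⟩ := S1844.result K A L hL 2 one_le_two
  show PicF.cl ((Scheme.Modules.pullback (𝟙 A ^ 2).left).obj L) = _
  rw [show PicF.cl ((Scheme.Modules.pullback (𝟙 A ^ 2).left).obj L) = PicF.cl (CohB1.tensorMod _ _) from
    Quot.sound ⟨e⟩]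
  rw [FGA29.cl_tensor, FGA29.cl_tensorPow, FGA29.cl_tensorPow,
    show 2 * (2 + 1) / 2 = 3 from rfl, show 2 * (2 - 1) / 2 = 1 from rfl, pow_one]
  rfl

variable (g : ℕ) (hg : topologicalKrullDim A.left = g)

include hg in
/-- `χ(L^n) = n^g χ(L)`. -/
theorem euler_pow {L M : A.left.Modules} (hL : PicF.IsInvertible L) (hM : PicF.IsInvertible M)
    (hLM : PicF.cl L * PicF.cl M = 1) (n : ℕ) (G : A.left.Modules) (hG : PicF.cl G = PicF.cl L ^ n) :
    (@Curv2.euler K _ A.left ⟨A.hom⟩ G : ℚ) = (n : ℚ) ^ g * (@Curv2.euler K _ A.left ⟨A.hom⟩ L : ℚ) := by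
  letI : A.left.Over (Spec (CommRingCat.of K)) := ⟨A.hom⟩
  haveI : IsProper (A.left ↘ Spec (CommRingCat.of K)) := ‹IsProper A.hom›
  haveI : IsLocallyNoetherian A.left := LocallyOfFiniteType.isLocallyNoetherian A.hom
  haveI : IsFinite (𝟙 A ^ 2).left := AbDeg57.isFinite_pow 2 one_le_two
  haveI : Flat (𝟙 A ^ 2).left := AbDeg57.flat_pow 2 one_le_two
  let iv := ((𝟙 A)⁻¹ : A ⟶ A).left
  let S := CohB1.tensorMod L ((Scheme.Modules.pullback iv).obj L)
  let N := CohB1.tensorMod L ((Scheme.Modules.pullback iv).obj M)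
  have hS : PicF.IsInvertible S := EGA73.isInvertible_tensorMod hL (PicLoc.isInvertible_pullback iv hL)
  have hN : PicF.IsInvertible N := EGA73.isInvertible_tensorMod hL (PicLoc.isInvertible_pullback iv hM)
  let c := PicF.cl L
  let d := PicF.cl M
  have hS' : PicF.cl S = c * invCl c := rfl
  have hN' : PicF.cl N = c * invCl d := rfl
  have pS : FGA29.pullClHom (𝟙 A ^ 2).left (PicF.cl S) = PicF.cl S ^ 4 := by
    rw [hS', map_mul, pull_two hL]
    erw [pull_two (PicLoc.isInvertible_pullback iv hL)]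
    show c ^ 3 * invCl c * (invCl c ^ 3 * invCl (invCl c)) = _
    rw [invCl_invCl, mul_pow, pow_succ c 3, pow_succ (invCl c) 3]
    ac_rfl
  have pN : FGA29.pullClHom (𝟙 A ^ 2).left (PicF.cl N) = PicF.cl N ^ 2 := by
    rw [hN', map_mul, pull_two hL]
    erw [pull_two (PicLoc.isInvertible_pullback iv hM)]
    show c ^ 3 * invCl c * (invCl d ^ 3 * invCl (invCl d)) = _
    rw [invCl_invCl]
    have e : invCl c * invCl d = 1 := by rw [← map_mul]; exact (congrArg invCl hLM).trans (map_one _)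
    calc c ^ 3 * invCl c * (invCl d ^ 3 * d)
        = c ^ 2 * invCl d ^ 2 * ((c * d) * (invCl c * invCl d)) := by
          rw [pow_succ c 2, pow_succ (invCl d) 2]; ac_rfl
      _ = (c * invCl d) ^ 2 := by rw [e, hLM, _root_.mul_one, _root_.mul_one, mul_pow]
  have hO : Coh.IsCoh (Coh.structureModule A.left) := LC16.ExtCodim.isCoh_structureModule _
  have hfam : ∀ i, PicF.IsInvertible (![S, N] i) := by
    intro i
    fin_cases i
    exacts [hS, hN]
  obtain ⟨P, hP, hPe⟩ := Snapper75.mem_polySub_iff.1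
    (Snapper75.chi_mem_polySub K (L := ![S, N]) hfam (g + 1) _ hO (dim_support_lt hg.le _))
  obtain ⟨κ, hκ⟩ := eq_pow_of_weight hP (fun m => by
    rw [← hPe, ← hPe]
    have hcl : PicF.cl ((Scheme.Modules.pullback (𝟙 A ^ 2).left).obj
        (Curv2.tensorPows (Coh.structureModule A.left) 2 ![S, N] m)) =
        PicF.cl (Curv2.tensorPows (Coh.structureModule A.left) 2 ![S, N] ![4 * m 0, 2 * m 1]) := by
      show FGA29.pullClHom (𝟙 A ^ 2).left (PicF.cl _) = _
      rw [FGA29.cl_tensorPows, FGA29.cl_tensorPows, FGA29.cl_one, _root_.one_mul, _root_.one_mul, Fin.prod_univ_two,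
        Fin.prod_univ_two, map_mul, map_pow, map_pow]
      simp only [Matrix.cons_val_zero, Matrix.cons_val_one]
      rw [pS, pN, ← pow_mul, ← pow_mul]
    have h := EulerIsog7.euler_pullback (𝟙 A ^ 2) (2 ^ (2 * g))
      (AbDeg57.finrank_pow g hg 2 one_le_two) _ (Snapper75.isCoh_tensorPows hO 2 ![S, N] hfam m)
    rw [FGA29.euler_cl K hcl] at h
    show (Curv2.euler K A.left _ : ℚ) = _
    rw [h, pow_mul]
    push_cast
    norm_num
    rfl)
  obtain ⟨H, hHd, hH⟩ := exists_hilbert K hg.le hL hO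
  have h2 : ∀ j : ℕ, H.eval (2 * (j : ℚ)) = κ * (j : ℚ) ^ g := fun j => by
    have hcl : PicF.cl (Curv2.tensorPows (Coh.structureModule A.left) 2 ![S, N] ![j, j]) =
        PicF.cl (Coh.structureModule A.left) * PicF.cl L ^ (2 * j) := by
      rw [FGA29.cl_tensorPows, Fin.prod_univ_two]
      simp only [Matrix.cons_val_zero, Matrix.cons_val_one]
      rw [← mul_pow, pow_mul]
      congr 2
      rw [hS', hN', _root_.mul_mul_mul_comm, ← map_mul, hLM, map_one, _root_.mul_one, pow_two]
    have h := hH (2 * j) _ hcl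
    rw [Nat.cast_mul, Nat.cast_ofNat] at h
    rw [← h]
    refine (hPe ![j, j]).trans ((hκ ![j, j]).trans ?_)
    simp
  have hpoly : H.comp (Polynomial.C 2 * Polynomial.X) = Polynomial.C κ * Polynomial.X ^ g := by
    refine Polynomial.eq_of_infinite_eval_eq _ _
      (Set.Infinite.mono (s := Set.range fun j : ℕ => (j : ℚ)) ?_
        (Set.infinite_range_of_injective Nat.cast_injective))
    rintro _ ⟨j, rfl⟩
    simp [h2 j]
  have hall : ∀ x : ℚ, H.eval x = κ * (x / 2) ^ g := fun x => by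
    have h := congrArg (Polynomial.eval (x / 2)) hpoly
    simp at h
    rwa [mul_div_cancel₀ x (two_ne_zero' ℚ)] at h
  have e1 := hH 1 L (by rw [FGA29.cl_one, _root_.one_mul, pow_one])
  rw [hH n G (by rw [hG, FGA29.cl_one, _root_.one_mul]), e1, hall, hall, Nat.cast_one, div_pow, div_pow, one_pow]
  ring

include hg in
/-- `χ(L⁻¹) = (-1)^g χ(L)`. -/
theorem euler_inverse {L M : A.left.Modules} (hL : PicF.IsInvertible L) (hM : PicF.IsInvertible M)
    (hLM : PicF.cl L * PicF.cl M = 1) :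
    (@Curv2.euler K _ A.left ⟨A.hom⟩ M : ℚ) = (-1 : ℚ) ^ g * (@Curv2.euler K _ A.left ⟨A.hom⟩ L : ℚ) := by
  letI : A.left.Over (Spec (CommRingCat.of K)) := ⟨A.hom⟩
  haveI : IsProper (A.left ↘ Spec (CommRingCat.of K)) := ‹IsProper A.hom›
  obtain ⟨H, hHd, hH⟩ := exists_hilbert K hg.le hM
    (Amp73.isCoh_of_isInvertible (EGA73.isInvertible_tensorPow hL g) : Coh.IsCoh (CohB1.tensorPow L g))
  set χ := (Curv2.euler K A.left L : ℚ)
  have hlow : ∀ b ≤ g, H.eval (b : ℚ) = ((g : ℚ) - b) ^ g * χ := fun b hb => by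
    have hcl : PicF.cl (CohB1.tensorPow L (g - b)) = PicF.cl (CohB1.tensorPow L g) * PicF.cl M ^ b := by
      rw [FGA29.cl_tensorPow, FGA29.cl_tensorPow]
      calc PicF.cl L ^ (g - b) = PicF.cl L ^ (g - b) * (PicF.cl L * PicF.cl M) ^ b := by
            rw [hLM, one_pow, _root_.mul_one]
        _ = _ := by rw [mul_pow, ← _root_.mul_assoc, ← pow_add, Nat.sub_add_cancel hb]
    rw [← hH b _ hcl, euler_pow g hg hL hM hLM (g - b) _ (FGA29.cl_tensorPow L _), Nat.cast_sub hb]
  let Q : ℚ[X] := Polynomial.C χ * (Polynomial.C (g : ℚ) - Polynomial.X) ^ g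
  have hQd : Q.natDegree ≤ g := by
    refine (Polynomial.natDegree_C_mul_le _ _).trans (Polynomial.natDegree_pow_le.trans ?_)
    refine (Nat.mul_le_mul_left g (Polynomial.natDegree_sub_le _ _)).trans ?_
    simp
  have heq : H = Q := by
    refine Polynomial.eq_of_natDegree_lt_card_of_eval_eq H Q
      (f := fun i : Fin (g + 1) => ((i : ℕ) : ℚ)) (fun i j h => Fin.ext (Nat.cast_injective h)) (fun i => ?_)
      (by rw [Fintype.card_fin]; omega)
    rw [hlow _ (Nat.lt_succ_iff.1 i.2)]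
    simp [Q, mul_comm]
  have hcl : PicF.cl M = PicF.cl (CohB1.tensorPow L g) * PicF.cl M ^ (g + 1) := by
    rw [FGA29.cl_tensorPow, pow_succ, ← _root_.mul_assoc, ← mul_pow, hLM, one_pow, _root_.one_mul]
  have h := hH (g + 1) M hcl
  rw [heq] at h
  rw [h]
  simp [Q]
  rw [mul_comm]

end Groth.Agent.AbRR7
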