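import Groth.Agent.FGA29.IntNumBasic

/-!
Hilbert polynomials of powers of an invertible module.
-/

set_option autoImplicit false
set_option backward.isDefEq.respectTransparency.types false
set_option linter.style.haveILetI false

noncomputable section

universe u

open CategoryTheory CategoryTheory.Limits AlgebraicGeometry TopologicalSpace
open scoped Polynomial Groth.Agent.FGA29

namespace Groth.Agent.AbRR7

variable (k : Type u) [Field k] {X : Scheme.{u}} [X.Over (Spec (CommRingCat.of k))]
  [IsProper (X ↘ Spec (CommRingCat.of k))]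

theorem dim_support_lt {g : ℕ} (hg : topologicalKrullDim X ≤ g) (F : X.Modules) :
    topologicalKrullDim (CohB1.support F) < ((g + 1 : ℕ) : WithBot ℕ∞) :=
  lt_of_le_of_lt ((topologicalKrullDim_subspace_le X _).trans hg)
    (by exact_mod_cast Nat.lt_succ_self g)

/-- The Euler characteristic of `F ⊗ L^n` is polynomial in `n` of degree at most the dimension. -/
theorem exists_hilbert {g : ℕ} (hg : topologicalKrullDim X ≤ g) {L : X.Modules}
    (hL : PicF.IsInvertible L) {F : X.Modules} (hF : Coh.IsCoh F) :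
    ∃ H : ℚ[X], H.natDegree ≤ g ∧ ∀ (n : ℕ) (G : X.Modules),
      PicF.cl G = PicF.cl F * PicF.cl L ^ n → (Curv2.euler k X G : ℚ) = H.eval (n : ℚ) := by
  obtain ⟨P, hP, hPe⟩ := Snapper75.mem_polySub_iff.1
    (Snapper75.chi_mem_polySub k (L := fun _ : Fin 1 => L) (fun _ => hL) (g + 1) F hF (dim_support_lt hg F))
  refine ⟨∑ m ∈ P.support, Polynomial.monomial (m 0) (P.coeff m), ?_, fun n G hG => ?_⟩
  · refine Polynomial.natDegree_sum_le_of_forall_le _ _ fun m hm => ?_
    refine (Polynomial.natDegree_monomial_le _).trans (Nat.lt_succ_iff.1 ?_)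
    have := hP m hm
    rwa [Snapper75.sum_eq_finsupp_sum, Fin.sum_univ_one] at this
  · have h : Curv2.euler k X G = Curv2.euler k X (Curv2.tensorPows F 1 (fun _ => L) fun _ => n) :=
      FGA29.euler_cl k (by rw [hG, FGA29.cl_tensorPows, Fin.prod_univ_one])
    rw [h]
    refine (hPe fun _ => n).trans ?_
    rw [MvPolynomial.eval_eq', Polynomial.eval_finsetSum]
    exact Finset.sum_congr rfl fun m _ => by simp [Polynomial.eval_monomial]

/-- A polynomial in two variables of degree at most `g`, weighted homogeneous of weight `2 g` for the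
weights `2, 1`, only involves the `g`-th power of the first variable. -/
theorem eq_pow_of_weight {g : ℕ} {P : MvPolynomial (Fin 2) ℚ}
    (hP : ∀ m ∈ P.support, (m.sum fun _ e => e) < g + 1)
    (hw : ∀ n : Fin 2 → ℕ, MvPolynomial.eval (fun i => ((![4 * n 0, 2 * n 1] i : ℕ) : ℚ)) P =
      (4 : ℚ) ^ g * MvPolynomial.eval (fun i => (n i : ℚ)) P) :
    ∃ c : ℚ, ∀ n : Fin 2 → ℕ, MvPolynomial.eval (fun i => (n i : ℚ)) P = c * (n 0 : ℚ) ^ g := by
  let Q : MvPolynomial (Fin 2) ℚ :=
    ∑ m ∈ P.support, MvPolynomial.monomial m (P.coeff m * ((4 : ℚ) ^ m 0 * (2 : ℚ) ^ m 1))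
  have hQ : Q = MvPolynomial.C ((4 : ℚ) ^ g) * P := by
    refine Snapper75.eq_of_eval_nat_eq fun n => ?_
    rw [map_mul, MvPolynomial.eval_C, ← hw n, map_sum, MvPolynomial.eval_eq' _ P]
    refine Finset.sum_congr rfl fun m _ => ?_
    rw [Snapper75.eval_monomial_eq]
    simp [Snapper75.monoFn, Fin.prod_univ_two, mul_pow]
    ring
  have hsupp : ∀ m ∈ P.support, m 0 = g ∧ m 1 = 0 := fun m hm => by
    have h := congrArg (MvPolynomial.coeff m) hQ
    rw [MvPolynomial.coeff_C_mul, MvPolynomial.coeff_sum, Finset.sum_eq_single m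
      (fun m' _ hne => by rw [MvPolynomial.coeff_monomial, if_neg hne]) (fun h => absurd hm h),
      MvPolynomial.coeff_monomial, if_pos rfl, mul_comm ((4 : ℚ) ^ g)] at h
    have h2 := mul_left_cancel₀ (MvPolynomial.mem_support_iff.1 hm) h
    have h3 : 2 ^ (2 * m 0 + m 1) = 2 ^ (2 * g) := by
      rw [pow_add, pow_mul, pow_mul]
      exact_mod_cast h2
    have h4 := Nat.pow_right_injective le_rfl h3
    have h5 := hP m hm
    rw [Snapper75.sum_eq_finsupp_sum, Fin.sum_univ_two] at h5
    omega
  refine ⟨∑ m ∈ P.support, P.coeff m, fun n => ?_⟩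
  rw [MvPolynomial.eval_eq', Finset.sum_mul]
  refine Finset.sum_congr rfl fun m hm => ?_
  rw [Fin.prod_univ_two, (hsupp m hm).1, (hsupp m hm).2, pow_zero, mul_one]

end Groth.Agent.AbRR7
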